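import Mathlib
import Groth.Agent.PushLib.Props
import Groth.Agent.PushLib.Transfer
import Mathlib.AlgebraicGeometry.ZariskisMainTheorem

/-!
Nice pairs lift along separated, locally quasi-finite morphisms of finite type.
-/

set_option autoImplicit false

universe u

open CategoryTheory CategoryTheory.Limits AlgebraicGeometry TopologicalSpace

namespace Groth.Agent.PushFun

open Groth.Agent.PushLib

theorem quasiAffine_of_lqf {X Y : Scheme.{u}} (f : X ⟶ Y) [IsAffine Y] [IsSeparated f] [QuasiCompact f]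
    [LocallyQuasiFinite f] [LocallyOfFiniteType f] : X.IsQuasiAffine := by
  obtain ⟨U, hU, hU'⟩ := f.exists_isIso_morphismRestrict_toNormalization
  have htop : f.toNormalization ⁻¹ᵁ U = ⊤ := by
    refine TopologicalSpace.Opens.ext ?_
    refine hU'.trans (Set.eq_univ_of_forall fun x => ?_)
    exact show x ∈ f.quasiFiniteLocus from f.quasiFiniteLocus_eq_top ▸ trivial
  haveI : IsOpenImmersion f.toNormalization := by
    have e : f.toNormalization = X.topIso.inv ≫ (X.isoOfEq htop.symm).hom ≫ (f.toNormalization ∣_ U) ≫ U.ι := by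
      rw [morphismRestrict_ι, Scheme.isoOfEq_hom_ι_assoc, ← Scheme.topIso_hom, Iso.inv_hom_id_assoc]
    rw [e]; infer_instance
  haveI : IsAffine f.normalization := isAffine_of_isAffineHom f.fromNormalization
  haveI : CompactSpace X := QuasiCompact.compactSpace_of_compactSpace f
  exact Scheme.IsQuasiAffine.of_isImmersion f.toNormalization

/-- finitely many points of a quasi-affine open lie in an affine basic open -/
theorem exists_affine_basicOpen_finite {X : Scheme.{u}} {O : X.Opens} (hO : O.toScheme.IsQuasiAffine) (F : Set X)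
    (hF : F.Finite) (hFO : F ⊆ (O : Set X)) :
    ∃ g : Γ(X, O), IsAffineOpen (X.basicOpen g) ∧ F ⊆ (X.basicOpen g : Set X) := by
  haveI := hO
  let j := O.toScheme.toSpecΓ
  obtain ⟨r, hr, hrF⟩ := exists_basicOpen_finite (isAffineOpen_top (Spec Γ(O.toScheme, ⊤)))
    (j '' (O.ι ⁻¹' F)) ((hF.preimage O.ι.isOpenEmbedding.injective.injOn).image _) j.opensRange
    (fun _ _ => trivial) (by rintro _ ⟨x, -, rfl⟩; exact ⟨x, rfl⟩)
  have haff : IsAffineOpen (j ⁻¹ᵁ (Spec Γ(O.toScheme, ⊤)).basicOpen r) :=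
    ((isAffineOpen_top (Spec _)).basicOpen r).preimage_of_isOpenImmersion j hr
  rw [Scheme.preimage_basicOpen_top] at haff
  refine ⟨O.topIso.hom ((j.appTop).hom r), ?_, fun x hx => ?_⟩
  · have h := (O.ι.isAffineOpen_iff_of_isOpenImmersion (U := O.toScheme.basicOpen ((j.appTop).hom r))).2 haff
    rw [Scheme.image_basicOpen] at h
    convert h using 1
    exact (Scheme.basicOpen_res_eq _ _ _).trans (by simp; rfl)
  · have h1 : (⟨x, hFO hx⟩ : O.toScheme) ∈ j ⁻¹ᵁ (Spec Γ(O.toScheme, ⊤)).basicOpen r :=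
      hrF ⟨⟨x, hFO hx⟩, hx, rfl⟩
    rw [Scheme.preimage_basicOpen_top] at h1
    have h2 : x ∈ O.ι ''ᵁ O.toScheme.basicOpen ((j.appTop).hom r) := ⟨⟨x, hFO hx⟩, h1, rfl⟩
    rw [Scheme.image_basicOpen] at h2
    convert h2 using 1
    simp [Scheme.Opens.topIso]
    exact iff_of_eq (congrArg (fun V : X.Opens => x ∈ V) ((Scheme.basicOpen_res_eq _ _ _).trans rfl))

/-- combinations of sections with affine basic opens have affine basic opens -/
theorem isAffineOpen_basicOpen_comb {X : Scheme.{u}} {O : X.Opens} (G g a b : Γ(X, O))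
    (hG : IsAffineOpen (X.basicOpen G)) (hg : IsAffineOpen (X.basicOpen g)) :
    IsAffineOpen (X.basicOpen (a * G + b * g)) := by
  let H := a * G + b * g
  let r := (X.presheaf.map (homOfLE (X.basicOpen_le H)).op).hom
  have key : ∀ s : Γ(X, O), IsAffineOpen (X.basicOpen s) → IsAffineOpen (X.basicOpen (r s)) := fun s hs => by
    have h : IsAffineOpen (X.basicOpen ((X.presheaf.map (homOfLE (X.basicOpen_le s)).op).hom H)) := hs.basicOpen _
    rw [Scheme.basicOpen_res] at h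
    show IsAffineOpen (X.basicOpen ((X.presheaf.map (homOfLE (X.basicOpen_le H)).op).hom s))
    rwa [Scheme.basicOpen_res, inf_comm]
  refine isAffineOpen_of_isAffineOpen_basicOpen _ {r G, r g} ?_ ?_
  · refine Ideal.eq_top_of_isUnit_mem _ (x := r H) ?_ ?_
    · rw [show r H = r a * r G + r b * r g by simp [H]]
      exact add_mem (Ideal.mul_mem_left _ _ (Ideal.subset_span (Or.inl rfl)))
        (Ideal.mul_mem_left _ _ (Ideal.subset_span (Or.inr rfl)))
    · exact RingedSpace.isUnit_res_basicOpen X.toLocallyRingedSpace.toRingedSpace H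
  · rintro _ (rfl | rfl)
    exacts [key G hG, key g hg]

variable {Z Y X' Z' Y' X : Scheme.{u}}

/-- separating a point of an integral fibre from a compact set in the same fibre -/
theorem exists_separate (j : Z ⟶ Y) [IsIntegralHom j] {V : Y.Opens} (hV : IsAffineOpen V) (y : Y) (hy : y ∈ V)
    (z : Z) (hz : j z = y) (B : Set Z) (hB : IsCompact B) (hBy : ∀ b ∈ B, j b = y) (hzB : z ∉ B) :
    ∃ c : Γ(Z, j ⁻¹ᵁ V), z ∈ Z.basicOpen c ∧ ∀ b ∈ B, b ∉ Z.basicOpen c := by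
  classical
  have hA : IsAffineOpen (j ⁻¹ᵁ V) := hV.preimage j
  have hmem : ∀ P : Z, j P = y → P ∈ j ⁻¹ᵁ V := fun P hP => show j P ∈ V from hP.symm ▸ hy
  have hsep : ∀ b : B, ∃ a w : Γ(Z, j ⁻¹ᵁ V), z ∈ Z.basicOpen a ∧ (b : Z) ∈ Z.basicOpen w ∧
      ∀ P, j P = y → P ∈ Z.basicOpen w → P ∉ Z.basicOpen a := by
    rintro ⟨b, hb⟩
    have hne : z ≠ b := fun h => hzB (h ▸ hb)
    rcases exists_isOpen_xor'_mem hne with ⟨U, hU, hUx⟩
    rcases hUx with ⟨hzU, hbU⟩ | ⟨hbU, hzU⟩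
    · obtain ⟨a, ha, hza⟩ := hA.exists_basicOpen_le (V := ⟨U, hU⟩) ⟨z, hzU⟩ (hmem z hz)
      obtain ⟨w, hw⟩ := exists_complement j hV y hy a
      exact ⟨a, w, hza, (hw b (hBy b hb)).2 fun h => hbU (ha h), fun P hP hPw => (hw P hP).1 hPw⟩
    · obtain ⟨w, hw', hbw⟩ := hA.exists_basicOpen_le (V := ⟨U, hU⟩) ⟨b, hbU⟩ (hmem b (hBy b hb))
      obtain ⟨a, ha⟩ := exists_complement j hV y hy w
      exact ⟨a, w, (ha z hz).2 fun h => hzU (hw' h), hbw, fun P hP hPw hPa => (ha P hP).1 hPa hPw⟩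
  choose a w ha hw hsep using hsep
  obtain ⟨t, ht⟩ := hB.elim_finite_subcover (fun b : B => ((Z.basicOpen (w b) : Z.Opens) : Set Z))
    (fun b => (Z.basicOpen (w b)).2) (fun b hb => Set.mem_iUnion.2 ⟨⟨b, hb⟩, hw ⟨b, hb⟩⟩)
  refine ⟨∏ b ∈ t, a b, ?_, fun P hP hPc => ?_⟩
  · refine (mem_basicOpen_iff_evaluation (hmem z hz) _).2 ?_
    show (Z.evaluation (j ⁻¹ᵁ V) z (hmem z hz)).hom (∏ b ∈ t, a b) ≠ 0
    rw [map_prod, Finset.prod_ne_zero_iff]
    exact fun b _ => (mem_basicOpen_iff_evaluation (hmem z hz) _).1 (ha b)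
  · obtain ⟨b, hb, hPb⟩ := Set.mem_iUnion₂.1 (ht hP)
    have h1 : (Z.evaluation (j ⁻¹ᵁ V) P (hmem P (hBy P hP))).hom (∏ b ∈ t, a b) ≠ 0 :=
      (mem_basicOpen_iff_evaluation (hmem P (hBy P hP)) _).1 hPc
    rw [map_prod, Finset.prod_ne_zero_iff] at h1
    have := h1 b hb
    exact hsep b P (hBy P hP) hPb ((mem_basicOpen_iff_evaluation (hmem P (hBy P hP)) _).2 this)

/-- a fibre of `j'` lies in an affine open of `X'` -/
theorem exists_affine_fibre {i : Z ⟶ X} [IsClosedImmersion i] {j : Z ⟶ Y} [IsIntegralHom j] (p : Nice i j)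
    {i' : Z' ⟶ X'} [IsClosedImmersion i'] {j' : Z' ⟶ Y'} [IsIntegralHom j'] {f : X' ⟶ X} {g : Y' ⟶ Y} {h : Z' ⟶ Z}
    (hX : i' ≫ f = h ≫ i) (hY : j' ≫ g = h ≫ j) [IsSeparated f] [LocallyQuasiFinite f] [LocallyOfFiniteType f]
    (y' : Y') (hy : g y' ∈ p.V) :
    ∃ U : X'.Opens, IsAffineOpen U ∧ U ≤ f ⁻¹ᵁ p.U ∧ ∀ k, j' k = y' → i' k ∈ U := by
  classical
  let K : Set Z' := {k | j' k = y'}
  have hK : IsCompact K := by
    have := isCompact_range (j'.fiberι y').continuous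
    rwa [Scheme.Hom.range_fiberι] at this
  have hjh : ∀ k ∈ K, j (h k) = g y' := fun k hk => by
    rw [← Scheme.Hom.comp_apply, ← hY, Scheme.Hom.comp_apply, hk]
  have hhV : ∀ k ∈ K, h k ∈ j ⁻¹ᵁ p.V := fun k hk => show j (h k) ∈ p.V from (hjh k hk).symm ▸ hy
  have hfi : ∀ k, f (i' k) = i (h k) := fun k => by
    rw [← Scheme.Hom.comp_apply, hX, Scheme.Hom.comp_apply]
  have hKf : ∀ k ∈ K, i' k ∈ f ⁻¹ᵁ p.U := fun k hk => by
    show f (i' k) ∈ p.U
    rw [hfi]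
    exact p.heq.ge (hhV k hk)
  -- a quasi-compact open around the fibre
  have hloc : ∀ k : K, ∃ U : X'.Opens, IsAffineOpen U ∧ i' k ∈ U ∧ U ≤ f ⁻¹ᵁ p.U := fun k => by
    obtain ⟨U, hU, h1, h2⟩ := exists_isAffineOpen_mem_and_subset (X := X') (x := i' k) (U := f ⁻¹ᵁ p.U) (hKf k k.2)
    exact ⟨U, hU, h1, h2⟩
  choose Uk hUk hkU hUle using hloc
  obtain ⟨t, ht⟩ := (hK.image i'.continuous).elim_finite_subcover (fun k : K => ((Uk k : X'.Opens) : Set X'))
    (fun k => (Uk k).2) (by rintro _ ⟨k, hk, rfl⟩; exact Set.mem_iUnion.2 ⟨⟨k, hk⟩, hkU ⟨k, hk⟩⟩)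
  let O : X'.Opens := ⨆ k ∈ t, Uk k
  have hOmem : ∀ k ∈ K, i' k ∈ O := fun k hk => by
    obtain ⟨l, hl, h'⟩ := Set.mem_iUnion₂.1 (ht ⟨k, hk, rfl⟩)
    exact Opens.mem_iSup.2 ⟨l, Opens.mem_iSup.2 ⟨hl, h'⟩⟩
  have hOle : O ≤ f ⁻¹ᵁ p.U := iSup₂_le fun k _ => hUle k
  have hOc : IsCompact (O : Set X') := by
    simp only [O, Opens.coe_iSup]
    exact t.finite_toSet.isCompact_biUnion fun k _ => (hUk k).isCompact
  let fO := f.resLE p.U O hOle
  haveI : CompactSpace O.toScheme := isCompact_iff_compactSpace.1 hOc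
  haveI : IsAffine p.U.toScheme := p.hU
  haveI : IsSeparated fO := by
    simp only [fO, Scheme.Hom.resLE]; infer_instance
  haveI : QuasiCompact fO := HasAffineProperty.iff_of_isAffine.2 (inferInstance : CompactSpace O.toScheme)
  haveI : LocallyQuasiFinite fO := inferInstance
  haveI : LocallyOfFiniteType fO := by
    simp only [fO, Scheme.Hom.resLE]; infer_instance
  have hqa : O.toScheme.IsQuasiAffine := quasiAffine_of_lqf fO
  have hfin : ∀ x : X, x ∈ p.U → {o : X' | o ∈ O ∧ f o = x}.Finite := fun x hx => by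
    refine ((fO.finite_preimage_singleton ⟨x, hx⟩).image O.ι).subset ?_
    rintro o ⟨ho, rfl⟩
    refine ⟨⟨o, ho⟩, ?_, rfl⟩
    refine p.U.ι.isOpenEmbedding.injective ?_
    show (fO ≫ p.U.ι) ⟨o, ho⟩ = _
    rw [Scheme.Hom.resLE_comp_ι f hOle]
    rfl
  let K₀ : Set Z := {z | j z = g y'}
  have hK₀ : IsCompact K₀ := by
    have := isCompact_range (j.fiberι (g y')).continuous
    rwa [Scheme.Hom.range_fiberι] at this
  -- local solution at a point of the fibre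
  have hpt : ∀ z : K₀, ∃ (c : Γ(Z, j ⁻¹ᵁ p.V)) (γ : Γ(X', O)), (z : Z) ∈ Z.basicOpen c ∧
      IsAffineOpen (X'.basicOpen γ) ∧ ∀ k ∈ K, h k ∈ Z.basicOpen c → i' k ∈ X'.basicOpen γ := by
    rintro ⟨z, hz⟩
    have hzU : i z ∈ p.U := p.heq.ge (show j z ∈ p.V from (show j z = g y' from hz).symm ▸ hy)
    obtain ⟨γ, hγ, hγF⟩ := exists_affine_basicOpen_finite hqa (i' '' {k | k ∈ K ∧ h k = z})
      ((hfin _ hzU).subset (by
        rintro _ ⟨k, ⟨hk, hkz⟩, rfl⟩
        exact ⟨hOmem k hk, by rw [hfi, hkz]⟩))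
      (by rintro _ ⟨k, ⟨hk, -⟩, rfl⟩; exact hOmem k hk)
    have hB : IsCompact (K ∩ (i' ⁻¹ᵁ X'.basicOpen γ : Set Z')ᶜ) :=
      hK.inter_right (i' ⁻¹ᵁ X'.basicOpen γ).2.isClosed_compl
    obtain ⟨c, hc, hcB⟩ := exists_separate j p.hV (g y') hy z hz (h '' (K ∩ (i' ⁻¹ᵁ X'.basicOpen γ : Set Z')ᶜ))
      (hB.image h.continuous) (by rintro _ ⟨k, hk, rfl⟩; exact hjh k hk.1)
      (by rintro ⟨k, hk, hkz⟩; exact hk.2 (hγF ⟨k, ⟨hk.1, hkz⟩, rfl⟩))
    refine ⟨c, γ, hc, hγ, fun k hk hkc => ?_⟩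
    by_contra hcon
    exact hcB (h k) ⟨k, ⟨hk, hcon⟩, rfl⟩ hkc
  choose c γ hc hγ hcγ using hpt
  obtain ⟨T, hT⟩ := hK₀.elim_finite_subcover (fun z : K₀ => ((Z.basicOpen (c z) : Z.Opens) : Set Z))
    (fun z => (Z.basicOpen (c z)).2) (fun z hz => Set.mem_iUnion.2 ⟨⟨z, hz⟩, hc ⟨z, hz⟩⟩)
  -- functions on the fibre lift to functions near the fibre
  have hlift : ∀ a : Γ(Z, j ⁻¹ᵁ p.V), ∃ â : Γ(X', O), ∀ k ∈ K, i' k ∈ X'.basicOpen â ↔ h k ∈ Z.basicOpen a := by
    intro a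
    obtain ⟨ã, hã⟩ := i.app_surjective _ p.hU ((Z.presheaf.map (homOfLE p.heq.le).op).hom a)
    refine ⟨(f.appLE p.U O hOle).hom ã, fun k hk => ?_⟩
    have e1 : Z.basicOpen a = i ⁻¹ᵁ X.basicOpen ã := by
      rw [Scheme.preimage_basicOpen, hã, Scheme.basicOpen_res, inf_eq_right.2]
      exact (Z.basicOpen_le a).trans p.heq.ge
    rw [Scheme.Hom.appLE, CommRingCat.comp_apply, Scheme.basicOpen_res, ← Scheme.preimage_basicOpen, e1]
    show i' k ∈ O ⊓ (f ⁻¹ᵁ X.basicOpen ã) ↔ i (h k) ∈ X.basicOpen ã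
    rw [← hfi]
    exact ⟨fun h => h.2, fun h => ⟨hOmem k hk, h⟩⟩
  suffices hs : ∃ (s : Γ(Z, j ⁻¹ᵁ p.V)) (G : Γ(X', O)), IsAffineOpen (X'.basicOpen G) ∧
      (∀ z ∈ T, ∀ P, j P = g y' → P ∈ Z.basicOpen (c z) → P ∈ Z.basicOpen s) ∧
      ∀ k ∈ K, h k ∈ Z.basicOpen s → i' k ∈ X'.basicOpen G by
    obtain ⟨s, G, hG, hTs, hsG⟩ := hs
    refine ⟨X'.basicOpen G, hG, (X'.basicOpen_le G).trans hOle, fun k hk => hsG k hk ?_⟩
    obtain ⟨z, hz, hzk⟩ := Set.mem_iUnion₂.1 (hT (show h k ∈ K₀ from hjh k hk))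
    exact hTs z hz _ (hjh k hk) hzk
  clear hT
  induction T using Finset.induction_on with
  | empty => exact ⟨0, 0, by rw [Scheme.basicOpen_zero]; exact isAffineOpen_bot X', by simp, by simp⟩
  | insert z T _ ih =>
    obtain ⟨s, G, hG, hTs, hsG⟩ := ih
    obtain ⟨w, hw⟩ := exists_complement j p.hV (g y') hy s
    obtain ⟨ŝ, hŝ⟩ := hlift s
    obtain ⟨ê, hê⟩ := hlift (w * c z)
    refine ⟨s + w * c z, ŝ * G + ê * γ z, isAffineOpen_basicOpen_comb G (γ z) ŝ ê hG (hγ z), ?_, ?_⟩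
    · intro z' hz' P hP hPc
      have hPV : P ∈ j ⁻¹ᵁ p.V := show j P ∈ p.V from hP.symm ▸ hy
      rw [mem_basicOpen_iff_evaluation hPV, map_add, map_mul]
      by_cases hPs : P ∈ Z.basicOpen s
      · rw [(Z.evaluation_eq_zero_iff_notMem_basicOpen P hPV w).2 (fun h => (hw P hP).1 h hPs), zero_mul, add_zero]
        exact (mem_basicOpen_iff_evaluation hPV s).1 hPs
      · rw [(Z.evaluation_eq_zero_iff_notMem_basicOpen P hPV s).2 hPs, zero_add]
        rcases Finset.mem_insert.1 hz' with rfl | hz''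
        · exact mul_ne_zero ((mem_basicOpen_iff_evaluation hPV w).1 ((hw P hP).2 hPs))
            ((mem_basicOpen_iff_evaluation hPV _).1 hPc)
        · exact absurd (hTs z' hz'' P hP hPc) hPs
    · intro k hk hks
      have hP := hhV k hk
      have hO := hOmem k hk
      rw [mem_basicOpen_iff_evaluation hO, map_add, map_mul, map_mul]
      by_cases hs' : h k ∈ Z.basicOpen s
      · have h0 : X'.evaluation O (i' k) hO ê = 0 :=
          (X'.evaluation_eq_zero_iff_notMem_basicOpen _ hO ê).2 fun h' => by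
            have := (hê k hk).1 h'
            rw [Z.basicOpen_mul] at this
            exact (hw _ (hjh k hk)).1 this.1 hs'
        rw [h0, zero_mul, add_zero]
        exact mul_ne_zero ((mem_basicOpen_iff_evaluation hO ŝ).1 ((hŝ k hk).2 hs'))
          ((mem_basicOpen_iff_evaluation hO G).1 (hsG k hk hs'))
      · have h0 : X'.evaluation O (i' k) hO ŝ = 0 :=
          (X'.evaluation_eq_zero_iff_notMem_basicOpen _ hO ŝ).2 fun h' => hs' ((hŝ k hk).1 h')
        rw [h0, zero_mul, zero_add]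
        have hwc : h k ∈ Z.basicOpen (w * c z) := by
          have := Z.basicOpen_add_le s (w * c z) hks
          exact this.resolve_left hs'
        refine mul_ne_zero ((mem_basicOpen_iff_evaluation hO ê).1 ((hê k hk).2 hwc))
          ((mem_basicOpen_iff_evaluation hO _).1 (hcγ z k hk ?_))
        rw [Z.basicOpen_mul] at hwc
        exact hwc.2

/-- nice pairs for the pulled back closed immersion and integral morphism -/
theorem exists_nice_lift {i : Z ⟶ X} [IsClosedImmersion i] {j : Z ⟶ Y} [IsIntegralHom j] (p : Nice i j)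
    {i' : Z' ⟶ X'} [IsClosedImmersion i'] {j' : Z' ⟶ Y'} [IsIntegralHom j'] {f : X' ⟶ X} {g : Y' ⟶ Y} {h : Z' ⟶ Z}
    (hX : i' ≫ f = h ≫ i) (hY : j' ≫ g = h ≫ j) [IsSeparated f] [LocallyQuasiFinite f] [LocallyOfFiniteType f]
    (y' : Y') (hy : g y' ∈ p.V) :
    ∃ q : Nice i' j', y' ∈ q.V ∧ q.U ≤ f ⁻¹ᵁ p.U := by
  obtain ⟨U, hU, hUle, hfib⟩ := exists_affine_fibre p hX hY y' hy
  obtain ⟨q, hq, hqU⟩ := exists_nice i' j' y' U hU hfib
  exact ⟨q, hq, hqU.trans hUle⟩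

end Groth.Agent.PushFun
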