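import Groth.Agent.PushFunLib.Alg
import Groth.Agent.PushFunLib.Nice

/-!
Functoriality of pushouts along closed immersions and integral morphisms for separated locally quasi-finite
morphisms of finite type.
-/

set_option autoImplicit false

universe u

open CategoryTheory CategoryTheory.Limits AlgebraicGeometry

namespace Groth.Agent.PushFun

open Groth.Agent.PushLib

theorem isPullback_chart {X Y : Scheme.{u}} (f : X ⟶ Y) {U : Y.Opens} (hU : IsAffineOpen U) {V : X.Opens}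
    (hV : IsAffineOpen V) (hVU : V = f ⁻¹ᵁ U) :
    IsPullback (Spec.map (f.appLE U V hVU.le)) hV.fromSpec hU.fromSpec f :=
  IsOpenImmersion.isPullback _ _ _ _ (IsAffineOpen.SpecMap_appLE_fromSpec f hU hV hVU.le).symm
    (by rw [hU.opensRange_fromSpec, hV.opensRange_fromSpec, hVU])

/-- A cartesian square of schemes gives pushouts of rings on affine charts. -/
theorem isPushout_appLE {X Y Z T : Scheme.{u}} {i : T ⟶ X} {p : T ⟶ Z} {g : X ⟶ Y} {k : Z ⟶ Y}
    (h : IsPullback i p g k) {U : Y.Opens} (hU : IsAffineOpen U) {UX : X.Opens} (hX : IsAffineOpen UX)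
    (eX : UX ≤ g ⁻¹ᵁ U) {UZ : Z.Opens} (hZ : IsAffineOpen UZ) (eZ : UZ = k ⁻¹ᵁ U) {UT : T.Opens}
    (hT : IsAffineOpen UT) (eT : UT = i ⁻¹ᵁ UX) (eT' : UT ≤ p ⁻¹ᵁ UZ) :
    IsPushout (g.appLE U UX eX) (k.appLE U UZ eZ.le) (i.appLE UX UT eT.le) (p.appLE UZ UT eT') := by
  have h1 := (isPullback_chart i hX hT eT).paste_vert h
  have h2 := isPullback_chart k hU hZ eZ
  have h3 : IsPullback (Spec.map (i.appLE UX UT eT.le)) (Spec.map (p.appLE UZ UT eT'))
      (Spec.map (g.appLE U UX eX)) (Spec.map (k.appLE U UZ eZ.le)) := by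
    refine IsPullback.of_bot ?_ ?_ h2.flip.flip
    · rw [show Spec.map (p.appLE UZ UT eT') ≫ hZ.fromSpec = hT.fromSpec ≫ p from
        IsAffineOpen.SpecMap_appLE_fromSpec p hZ hT eT',
        IsAffineOpen.SpecMap_appLE_fromSpec g hU hX eX]
      exact h1
    · rw [← Spec.map_comp, ← Spec.map_comp]
      congr 1
      rw [Scheme.Hom.appLE_comp_appLE, Scheme.Hom.appLE_comp_appLE]
      simp only [h.w]
  exact (IsPullback.of_map Scheme.Spec (f := (i.appLE UX UT eT.le).op) (g := (p.appLE UZ UT eT').op)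
    (h := (g.appLE U UX eX).op) (i := (k.appLE U UZ eZ.le).op) (by rw [← op_comp, ← op_comp, Scheme.Hom.appLE_comp_appLE, Scheme.Hom.appLE_comp_appLE]; simp only [h.w]) h3).unop.flip

/-- outside the closed leg the fibres of `v` are singletons -/
theorem finite_preimage_v {B' B A' A : Type u} [CommRing B'] [CommRing B] [CommRing A'] [CommRing A]
    (S : FibSq B' B A' A) (P : PrimeSpectrum B') (hP : P ∉ Set.range (PrimeSpectrum.comap S.u)) :
    {Q : PrimeSpectrum A' | PrimeSpectrum.comap S.v Q = P}.Finite := by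
  rcases S.exists_prime_over P with ⟨R, hR⟩ | ⟨-, j, -, hj, hjP⟩
  · exact absurd ⟨R, hR⟩ hP
  refine Set.Subsingleton.finite fun Q₁ h₁ Q₂ h₂ => PrimeSpectrum.ext (Ideal.ext fun x => ?_)
  have aux : ∀ Q : PrimeSpectrum A', PrimeSpectrum.comap S.v Q = P → S.v j ∉ Q.asIdeal := fun Q hQ h => by
    rw [← hQ] at hjP; exact hjP h
  rw [S.v_comap_mem Q₁ j hj (aux Q₁ h₁) x, S.v_comap_mem Q₂ j hj (aux Q₂ h₂) x,
    show PrimeSpectrum.comap S.v Q₁ = P from h₁, show PrimeSpectrum.comap S.v Q₂ = P from h₂]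

theorem locallyQuasiFinite_of_square {R B A' A Q D C' C : Type u} [CommRing R] [CommRing B] [CommRing A'] [CommRing A]
    [CommRing Q] [CommRing D] [CommRing C'] [CommRing C] (S : FibSq R B A' A) (T : FibSq Q D C' C)
    (φ : R →+* Q) (φB : B →+* D) (φA' : A' →+* C') (hφ : φ.FiniteType)
    (hv : T.v.comp φ = φA'.comp S.v)
    (hsq : IsPullback (specMap T.u) (specMap φB) (specMap φ) (specMap S.u))
    [LocallyQuasiFinite (specMap φB)] [LocallyQuasiFinite (specMap φA')] :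
    LocallyQuasiFinite (specMap φ) := by
  haveI : LocallyOfFiniteType (specMap φ) := (HasRingHomProperty.Spec_iff (P := @LocallyOfFiniteType)).2 hφ
  refine LocallyQuasiFinite.of_finite_preimage_singleton _ fun w => ?_
  by_cases hw : w ∈ Set.range (PrimeSpectrum.comap S.u)
  · obtain ⟨w₀, rfl⟩ := hw
    refine (((specMap φB).finite_preimage_singleton w₀).image (specMap T.u)).subset fun z hz => ?_
    obtain ⟨o, ho, ho'⟩ := Scheme.exists_preimage_of_isPullback hsq z w₀ hz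
    exact ⟨o, ho', ho⟩
  · have hu : ∀ z, specMap φ z = w → z ∉ Set.range (specMap T.u) := by
      rintro _ hz ⟨z₀, rfl⟩
      refine hw ⟨specMap φB z₀, ?_⟩
      rw [← hz]
      exact (congrArg (fun f : _ ⟶ Spec (.of R) => f z₀) hsq.w).symm
    refine ((((finite_preimage_v S w hw).biUnion fun x _ => (specMap φA').finite_preimage_singleton x)).image
      (specMap T.v)).subset fun z hz => ?_
    rcases T.exists_prime_over z with ⟨z₀, hz₀⟩ | ⟨z₀, -, hz₀, -, -⟩
    · exact absurd ⟨z₀, hz₀⟩ (hu z hz)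
    refine ⟨z₀, Set.mem_biUnion (x := specMap φA' z₀) ?_ rfl, hz₀⟩
    show PrimeSpectrum.comap S.v (PrimeSpectrum.comap φA' z₀) = w
    rw [← (show PrimeSpectrum.comap φ z = w from hz), ← hz₀, ← PrimeSpectrum.comap_comp_apply,
      ← PrimeSpectrum.comap_comp_apply, hv]

variable {X Y Z X' Y' Z' : Scheme.{u}} {i : Z ⟶ X} {j : Z ⟶ Y} {i' : Z' ⟶ X'} {j' : Z' ⟶ Y'}
  [IsClosedImmersion i] [IsClosedImmersion i'] {f : X' ⟶ X} {g : Y' ⟶ Y} {h : Z' ⟶ Z}

theorem exists_preimage (hY' : ∀ y : Y', ∃ p : Nice i' j', y ∈ p.V) (w : Nice.P i' j') :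
    (∃ x, Nice.a hY' x = w) ∨ ∃ y, Nice.b hY' y = w := by
  obtain ⟨q, z, rfl⟩ := (Nice.cover (i := i') (j := j')).exists_eq w
  rcases q.sq.exists_prime_over z with ⟨R, hR⟩ | ⟨Q, -, hQ, -, -⟩
  · exact Or.inr ⟨q.hV.fromSpec R, (congrArg (fun f : _ ⟶ Nice.P i' j' => f R) (Nice.fromSpec_b hY' q)).trans
      (congrArg q.ι hR)⟩
  · exact Or.inl ⟨q.hU.fromSpec Q, (congrArg (fun f : _ ⟶ Nice.P i' j' => f Q) (Nice.fromSpec_a hY' q)).trans
      (congrArg q.ι hQ)⟩

/-- the map of pushouts on a pair of charts -/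
theorem exists_chartHom (hX : IsPullback h i' i f) (hY0 : IsPullback h j' j g)
    [LocallyQuasiFinite f] [LocallyOfFiniteType f] [LocallyQuasiFinite g] [LocallyOfFiniteType g]
    (hY : ∀ y : Y, ∃ p : Nice i j, y ∈ p.V) (hY' : ∀ y : Y', ∃ p : Nice i' j', y ∈ p.V)
    (π : Nice.P i' j' ⟶ Nice.P i j) (hπa : Nice.a hY' ≫ π = f ≫ Nice.a hY) (hπb : Nice.b hY' ≫ π = g ≫ Nice.b hY)
    (p : Nice i j) (q : Nice i' j') (hU : q.U ≤ f ⁻¹ᵁ p.U) (hV : q.V ≤ g ⁻¹ᵁ p.V) :
    ∃ φ : p.ring →+* q.ring, q.ι ≫ π = specMap φ ≫ p.ι ∧ φ.FiniteType ∧ LocallyQuasiFinite (specMap φ) ∧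
      IsPullback (specMap q.sq.v) (Spec.map (f.appLE p.U q.U hU)) (specMap φ) (specMap p.sq.v) ∧
      IsPullback (specMap q.sq.u) (Spec.map (g.appLE p.V q.V hV)) (specMap φ) (specMap p.sq.u) := by
  let gU := f.appLE p.U q.U hU
  let gV := g.appLE p.V q.V hV
  have hZle : i' ⁻¹ᵁ q.U ≤ h ⁻¹ᵁ (i ⁻¹ᵁ p.U) := by
    rw [← Scheme.Hom.comp_preimage, hX.w, Scheme.Hom.comp_preimage]
    exact i'.preimage_mono hU
  let gZ := h.appLE (i ⁻¹ᵁ p.U) (i' ⁻¹ᵁ q.U) hZle
  have eq1 : gV ≫ q.q = p.q ≫ gZ := by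
    simp only [gV, gZ, Nice.q, Scheme.Hom.appLE_comp_appLE, hY0.w]
  have eq2 : gU ≫ q.p' = p.p' ≫ gZ := by
    simp only [gU, gZ, Nice.p', Scheme.Hom.app_eq_appLE, Scheme.Hom.appLE_comp_appLE, hX.w]
  let φ : p.ring →+* q.ring :=
    ((gV.hom.comp p.sq.u).prod (gU.hom.comp p.sq.v)).codRestrict _ fun x => by
      show q.q.hom (gV.hom (p.sq.u x)) = q.p'.hom (gU.hom (p.sq.v x))
      rw [← CommRingCat.comp_apply, ← CommRingCat.comp_apply, eq1, eq2, CommRingCat.comp_apply,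
        CommRingCat.comp_apply]
      exact congrArg gZ.hom (p.sq.w x)
  have hπ : q.ι ≫ π = specMap φ ≫ p.ι := by
    refine q.sq.hom_ext ?_ ?_
    · rw [← Category.assoc, ← Category.assoc, ← Nice.fromSpec_b hY' q, Category.assoc, hπb, ← Category.assoc,
        ← IsAffineOpen.SpecMap_appLE_fromSpec g p.hV q.hV hV, Category.assoc, Nice.fromSpec_b hY p,
        ← Category.assoc, ← Spec.map_comp, ← Spec.map_comp]
      rfl
    · rw [← Category.assoc, ← Category.assoc, ← Nice.fromSpec_a hY' q, Category.assoc, hπa, ← Category.assoc,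
        ← IsAffineOpen.SpecMap_appLE_fromSpec f p.hU q.hU hU, Category.assoc, Nice.fromSpec_a hY p,
        ← Category.assoc, ← Spec.map_comp, ← Spec.map_comp]
      rfl
  have pC : IsPushout gU p.p' q.p' gZ := by
    have := isPushout_appLE hX.flip p.hU q.hU hU (p.hU.preimage i) rfl (q.hU.preimage i') rfl hZle
    simpa only [Nice.p', Scheme.Hom.app_eq_appLE] using this
  have pD : IsPushout gV p.q q.q gZ :=
    isPushout_appLE hY0.flip p.hV q.hV hV (p.hU.preimage i) p.heq (q.hU.preimage i') q.heq hZle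
  have hq' : q.sq.q.comp gV.hom = gZ.hom.comp p.sq.q := congrArg CommRingCat.Hom.hom eq1
  have hp' : q.sq.p.comp gU.hom = gZ.hom.comp p.sq.p := congrArg CommRingCat.Hom.hom eq2
  have ha := isPushout_v (S := p.sq) (T := q.sq) (φ := φ) (φB := gV.hom) (φA' := gU.hom) (φA := gZ.hom) rfl rfl
    hq' hp' pC pD
  have hb := isPushout_u (S := p.sq) (T := q.sq) (φ := φ) (φB := gV.hom) (φA' := gU.hom) (φA := gZ.hom) rfl rfl
    hq' hp' pC pD
  have hft : φ.FiniteType :=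
    finiteType (S := p.sq) (T := q.sq) (φ := φ) (φB := gV.hom) (φA' := gU.hom) (φA := gZ.hom) rfl rfl
      hq' hp' pC pD (HasRingHomProperty.appLE @LocallyOfFiniteType g inferInstance ⟨_, p.hV⟩ ⟨_, q.hV⟩ hV)
      (HasRingHomProperty.appLE @LocallyOfFiniteType f inferInstance ⟨_, p.hU⟩ ⟨_, q.hU⟩ hU)
  have hpbu : IsPullback (specMap q.sq.u) (Spec.map gV) (specMap φ) (specMap p.sq.u) :=
    isPullback_SpecMap_of_isPushout _ _ _ _ hb
  refine ⟨φ, hπ, hft, ?_, isPullback_SpecMap_of_isPushout _ _ _ _ ha, hpbu⟩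
  haveI : LocallyQuasiFinite (specMap gV.hom) := (HasRingHomProperty.Spec_iff (P := @LocallyQuasiFinite)).2
    (HasRingHomProperty.appLE @LocallyQuasiFinite g inferInstance ⟨_, p.hV⟩ ⟨_, q.hV⟩ hV)
  haveI : LocallyQuasiFinite (specMap gU.hom) := (HasRingHomProperty.Spec_iff (P := @LocallyQuasiFinite)).2
    (HasRingHomProperty.appLE @LocallyQuasiFinite f inferInstance ⟨_, p.hU⟩ ⟨_, q.hU⟩ hU)
  exact locallyQuasiFinite_of_square p.sq q.sq φ gV.hom gU.hom hft rfl hpbu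

theorem exists_fun [IsIntegralHom j] [IsIntegralHom j'] (hX : IsPullback h i' i f) (hY0 : IsPullback h j' j g)
    [IsSeparated f] [LocallyQuasiFinite f] [LocallyOfFiniteType f]
    [IsSeparated g] [LocallyQuasiFinite g] [LocallyOfFiniteType g]
    (hY : ∀ y : Y, ∃ p : Nice i j, y ∈ p.V) (hY' : ∀ y : Y', ∃ p : Nice i' j', y ∈ p.V) :
    ∃ π : Nice.P i' j' ⟶ Nice.P i j, Nice.a hY' ≫ π = f ≫ Nice.a hY ∧ Nice.b hY' ≫ π = g ≫ Nice.b hY ∧
      IsSeparated π ∧ LocallyQuasiFinite π ∧ LocallyOfFiniteType π ∧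
      IsPullback (Nice.a hY') f π (Nice.a hY) ∧ IsPullback (Nice.b hY') g π (Nice.b hY) := by
  obtain ⟨π, hπa, hπb⟩ := Nice.exists_desc hY' (f ≫ Nice.a hY) (g ≫ Nice.b hY) (by
    rw [← Category.assoc, ← hX.w, Category.assoc, Nice.w hY, ← Category.assoc, hY0.w, Category.assoc])
  let ι := {pq : Nice i j × Nice i' j' // pq.2.U ≤ f ⁻¹ᵁ pq.1.U ∧ pq.2.V ≤ g ⁻¹ᵁ pq.1.V}
  choose φ hφ hft hlqf hsa hsb using fun k : ι => exists_chartHom hX hY0 hY hY' π hπa hπb k.1.1 k.1.2 k.2.1 k.2.2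
  -- the charts cover
  have hcov : ∀ w : Nice.P i' j', ∃ k : ι, w ∈ Set.range k.1.2.ι := by
    intro w
    obtain ⟨p, z, hz⟩ := (Nice.cover (i := i) (j := j)).exists_eq (π w)
    obtain ⟨q, t, rfl⟩ := (Nice.cover (i := i') (j := j')).exists_eq w
    have hpre : i' ⁻¹ᵁ (f ⁻¹ᵁ p.U) = j' ⁻¹ᵁ (g ⁻¹ᵁ p.V) := by
      rw [← Scheme.Hom.comp_preimage, ← Scheme.Hom.comp_preimage, ← hX.w, ← hY0.w, Scheme.Hom.comp_preimage,
        Scheme.Hom.comp_preimage, p.heq]
    have hmem : t ∈ q.W (f ⁻¹ᵁ p.U) (g ⁻¹ᵁ p.V) := by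
      rcases q.sq.exists_prime_over t with ⟨R, hR⟩ | ⟨Q, -, hQ, -, -⟩
      · refine Or.inl ⟨R, ?_, hR⟩
        show g (q.hV.fromSpec R) ∈ p.V
        rw [← Nice.preimage_b hY p]
        show Nice.b hY (g (q.hV.fromSpec R)) ∈ p.ι.opensRange
        rw [← Scheme.Hom.comp_apply g, ← hπb, Scheme.Hom.comp_apply]
        refine ⟨z, hz.trans (congrArg π ?_)⟩
        rw [← Scheme.Hom.comp_apply, Nice.fromSpec_b, Scheme.Hom.comp_apply]
        exact (congrArg q.ι hR).symm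
      · refine Or.inr ⟨Q, ?_, hQ⟩
        show f (q.hU.fromSpec Q) ∈ p.U
        rw [← Nice.preimage_a hY p]
        show Nice.a hY (f (q.hU.fromSpec Q)) ∈ p.ι.opensRange
        rw [← Scheme.Hom.comp_apply f, ← hπa, Scheme.Hom.comp_apply]
        refine ⟨z, hz.trans (congrArg π ?_)⟩
        rw [← Scheme.Hom.comp_apply, Nice.fromSpec_a, Scheme.Hom.comp_apply]
        exact (congrArg q.ι hQ).symm
    obtain ⟨r, hrq, hrU, hrV, t', ht'⟩ := q.exists_le _ _ hpre t hmem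
    refine ⟨⟨(p, r), hrU, hrV⟩, t', ?_⟩
    show r.ι t' = q.ι t
    rw [← Nice.res_ι hrq, Scheme.Hom.comp_apply]
    exact congrArg q.ι ht'
  choose kw hkw using hcov
  let 𝒰 : (Nice.P i' j').OpenCover := Scheme.Cover.mkOfCovers _ (fun w => Spec (.of (kw w).1.2.ring))
    (fun w => (kw w).1.2.ι) (fun w => ⟨w, hkw w⟩) (fun w => inferInstance)
  have hlocal : ∀ (Q : MorphismProperty Scheme.{u}) [IsZariskiLocalAtSource Q],
      (∀ k : ι, Q (specMap (φ k) ≫ k.1.1.ι)) → Q π := fun Q _ hQ => by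
    refine IsZariskiLocalAtSource.of_openCover 𝒰 fun w => ?_
    show Q ((kw w).1.2.ι ≫ π)
    rw [hφ]
    exact hQ _
  haveI hπlft : LocallyOfFiniteType π := hlocal @LocallyOfFiniteType fun k => by
    haveI : LocallyOfFiniteType (specMap (φ k)) := (HasRingHomProperty.Spec_iff (P := @LocallyOfFiniteType)).2 (hft k)
    infer_instance
  haveI hπlqf : LocallyQuasiFinite π := hlocal @LocallyQuasiFinite fun k => by
    haveI := hlqf k
    infer_instance
  -- cartesian squares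
  have hgen : ∀ {X₀ U₀ : Scheme.{u}} (a₀ : X₀ ⟶ Nice.P i j) (a₀' : U₀ ⟶ Nice.P i' j') (e : U₀ ⟶ X₀)
      (W : Nice i j → Scheme.{u}) (W' : Nice i' j' → Scheme.{u}) (κ : ∀ p, W p ⟶ X₀) (κ' : ∀ q, W' q ⟶ U₀)
      (s : ∀ p, W p ⟶ Spec (.of p.ring)) (s' : ∀ q, W' q ⟶ Spec (.of q.ring)) (e' : ∀ k : ι, W' k.1.2 ⟶ W k.1.1)
      (_ : a₀' ≫ π = e ≫ a₀) (_ : ∀ p, IsPullback (s p) (κ p) p.ι a₀)
      (_ : ∀ q, IsPullback (s' q) (κ' q) q.ι a₀') (_ : ∀ k, e' k ≫ κ k.1.1 = κ' k.1.2 ≫ e)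
      (_ : ∀ k, IsPullback (s' k.1.2) (e' k) (specMap (φ k)) (s k.1.1)),
      IsPullback a₀' e π a₀ := by
    intro X₀ U₀ a₀ a₀' e W W' κ κ' s s' e' hw h1 h1' he h2
    let c : U₀ ⟶ pullback π a₀ := pullback.lift a₀' e hw
    have hout : ∀ k : ι, IsPullback (s' k.1.2) (κ' k.1.2 ≫ e) (k.1.2.ι ≫ π) a₀ := fun k => by
      rw [hφ, ← he]
      exact (h2 k).paste_vert (h1 k.1.1)
    have htop : ∀ k : ι, IsPullback (s' k.1.2) (κ' k.1.2 ≫ c) k.1.2.ι (pullback.fst π a₀) := fun k => by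
      refine IsPullback.of_bot ?_ ?_ (IsPullback.of_hasPullback π a₀)
      · rw [Category.assoc, pullback.lift_snd]; exact hout k
      · rw [Category.assoc, pullback.lift_fst]; exact (h1' k.1.2).w
    haveI : ∀ k : ι, IsOpenImmersion (κ' k.1.2 ≫ c) := fun k =>
      MorphismProperty.of_isPullback (htop k) inferInstance
    have hcov' : ∀ z, ∃ k : ι, z ∈ Set.range (κ' k.1.2 ≫ c) := fun z => by
      obtain ⟨t, ht⟩ := hkw (pullback.fst π a₀ z)
      obtain ⟨o, ho⟩ := Scheme.exists_preimage_of_isPullback (htop (kw (pullback.fst π a₀ z))) t z ht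
      exact ⟨_, o, ho.2⟩
    choose kz hkz using hcov'
    let 𝒱 : (pullback π a₀).OpenCover := Scheme.Cover.mkOfCovers _ (fun z => W' (kz z).1.2)
      (fun z => κ' (kz z).1.2 ≫ c) (fun z => ⟨z, hkz z⟩) (fun z => inferInstance)
    have hc : (MorphismProperty.isomorphisms Scheme.{u}) c := by
      refine IsZariskiLocalAtTarget.of_openCover 𝒱 fun z => ?_
      have hR : IsPullback (κ' (kz z).1.2) (𝟙 _) c (κ' (kz z).1.2 ≫ c) := by
        have ho : IsPullback (κ' (kz z).1.2) (s' (kz z).1.2) (c ≫ pullback.fst π a₀) (kz z).1.2.ι := by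
          rw [pullback.lift_fst]
          exact (h1' (kz z).1.2).flip
        refine IsPullback.of_bot ?_ (by rw [Category.id_comp]) (htop (kz z)).flip
        rw [Category.id_comp]
        exact ho
      show (MorphismProperty.isomorphisms Scheme.{u}) (pullback.snd c (κ' (kz z).1.2 ≫ c))
      refine (MorphismProperty.cancel_left_of_respectsIso (MorphismProperty.isomorphisms Scheme.{u}) hR.isoPullback.hom _).1 ?_
      rw [hR.isoPullback_hom_snd]
      exact MorphismProperty.isomorphisms.infer_property _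
    haveI : IsIso c := hc
    exact IsPullback.of_iso_pullback ⟨hw⟩ (asIso c) (pullback.lift_fst _ _ _) (pullback.lift_snd _ _ _)
  -- separatedness
  have hdiag : ∀ {V : Scheme.{u}} (m : V ⟶ Nice.P i' j') [IsIntegralHom m] [IsSeparated (m ≫ π)],
      IsClosed (Set.range (m ≫ pullback.diagonal π)) := by
    intro V m _ _
    have hmap : IsIntegralHom (pullback.map (m ≫ π) (m ≫ π) π π m m (𝟙 _) (by simp) (by simp)) :=
      MorphismProperty.pullbackMap (P := @IsIntegralHom) ‹_› ‹_› rfl rfl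
    have e : m ≫ pullback.diagonal π =
        pullback.diagonal (m ≫ π) ≫ pullback.map (m ≫ π) (m ≫ π) π π m m (𝟙 _) (by simp) (by simp) := by
      apply pullback.hom_ext <;> simp [pullback.map, pullback.lift_fst, pullback.lift_snd, pullback.lift_fst_assoc, pullback.lift_snd_assoc]
    rw [e]
    exact (Scheme.Hom.isClosedMap _).isClosed_range
  haveI : IsAffineHom (Nice.a hY) := Nice.isAffineHom_a hY
  haveI : IsClosedImmersion (Nice.b hY) := Nice.isClosedImmersion_b hY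
  haveI : IsClosedImmersion (Nice.b hY') := Nice.isClosedImmersion_b hY'
  haveI : IsIntegralHom (Nice.a hY') := Nice.isIntegralHom_a hY'
  haveI : IsSeparated (Nice.a hY' ≫ π) := by rw [hπa]; infer_instance
  haveI : IsSeparated (Nice.b hY' ≫ π) := by rw [hπb]; infer_instance
  have hsep : IsSeparated π := by
    refine ⟨IsClosedImmersion.of_isPreimmersion _ ?_⟩
    have : Set.range (pullback.diagonal π) =
        Set.range (Nice.a hY' ≫ pullback.diagonal π) ∪ Set.range (Nice.b hY' ≫ pullback.diagonal π) := by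
      refine Set.Subset.antisymm ?_ ?_
      · rintro _ ⟨w, rfl⟩
        rcases exists_preimage hY' w with ⟨x, rfl⟩ | ⟨y, rfl⟩
        exacts [Or.inl ⟨x, rfl⟩, Or.inr ⟨y, rfl⟩]
      · rintro _ (⟨x, rfl⟩ | ⟨x, rfl⟩) <;> exact ⟨_, rfl⟩
    rw [this]
    exact (hdiag (Nice.a hY')).union (hdiag (Nice.b hY'))
  exact ⟨π, hπa, hπb, hsep, hπlqf, hπlft,
    hgen (Nice.a hY) (Nice.a hY') f _ _ (fun p => p.hU.fromSpec) (fun q => q.hU.fromSpec) _ _
      (fun k => Spec.map (f.appLE k.1.1.U k.1.2.U k.2.1)) hπa (Nice.isPullback_a hY)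
      (fun q => Nice.isPullback_a hY' q) (fun k => IsAffineOpen.SpecMap_appLE_fromSpec f k.1.1.hU k.1.2.hU k.2.1) hsa,
    hgen (Nice.b hY) (Nice.b hY') g _ _ (fun p => p.hV.fromSpec) (fun q => q.hV.fromSpec) _ _
      (fun k => Spec.map (g.appLE k.1.1.V k.1.2.V k.2.2)) hπb (Nice.isPullback_b hY)
      (fun q => Nice.isPullback_b hY' q) (fun k => IsAffineOpen.SpecMap_appLE_fromSpec g k.1.1.hV k.1.2.hV k.2.2) hsb⟩

end Groth.Agent.PushFun
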