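import Mathlib
import Groth.Agent.PushLib.FibSq

/-!
A map of fibre squares of rings whose two side squares are pushouts: both legs of the upper square are base
changes of the lower ones, and the middle map is of finite type when the two side maps are.
-/

set_option autoImplicit false

universe u

open CategoryTheory CategoryTheory.Limits TensorProduct

namespace Groth.Agent.PushFun

open Groth.Agent.PushLib

variable {R B A' A Q D C' C : Type u} [CommRing R] [CommRing B] [CommRing A'] [CommRing A] [CommRing Q] [CommRing D]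
  [CommRing C'] [CommRing C]
variable {S : FibSq R B A' A} {T : FibSq Q D C' C} {φ : R →+* Q} {φB : B →+* D} {φA' : A' →+* C'} {φA : A →+* C}

theorem ker_p_le (pC : IsPushout (CommRingCat.ofHom φA') (CommRingCat.ofHom S.p) (CommRingCat.ofHom T.p)
    (CommRingCat.ofHom φA)) : RingHom.ker T.p ≤ (RingHom.ker S.p).map φA' := by
  let I := (RingHom.ker S.p).map φA'
  let m : A' →+* C' ⧸ I := (Ideal.Quotient.mk I).comp φA'
  have hm : RingHom.ker S.p ≤ RingHom.ker m := fun a ha =>
    show Ideal.Quotient.mk I (φA' a) = 0 from Ideal.Quotient.eq_zero_iff_mem.2 (Ideal.mem_map_of_mem φA' ha)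
  let l : A →+* C' ⧸ I := S.p.liftOfSurjective S.surj ⟨m, hm⟩
  have hcond : CommRingCat.ofHom φA' ≫ CommRingCat.ofHom (Ideal.Quotient.mk I) =
      CommRingCat.ofHom S.p ≫ CommRingCat.ofHom l := by
    ext a
    show Ideal.Quotient.mk I (φA' a) = l (S.p a)
    exact (RingHom.liftOfRightInverse_comp_apply S.p _ _ ⟨m, hm⟩ a).symm
  let χ := pC.desc (CommRingCat.ofHom (Ideal.Quotient.mk I)) (CommRingCat.ofHom l) hcond
  intro w hw
  refine Ideal.Quotient.eq_zero_iff_mem.1 ?_
  have h := congrArg (fun t : CommRingCat.of C' ⟶ CommRingCat.of (C' ⧸ I) => t.hom w)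
    (pC.inl_desc (CommRingCat.ofHom (Ideal.Quotient.mk I)) (CommRingCat.ofHom l) hcond)
  change χ.hom (T.p w) = Ideal.Quotient.mk I w at h
  rw [← h, show T.p w = 0 from hw, map_zero]

variable (hu : T.u.comp φ = φB.comp S.u) (hv : T.v.comp φ = φA'.comp S.v)
include hu

theorem map_le_ker : (RingHom.ker S.u).map φ ≤ RingHom.ker T.u :=
  Ideal.map_le_iff_le_comap.2 fun r hr => by
    show T.u (φ r) = 0
    rw [← RingHom.comp_apply, hu, RingHom.comp_apply, show S.u r = 0 from hr, map_zero]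

include hv

theorem exists_lift_ker
    (pC : IsPushout (CommRingCat.ofHom φA') (CommRingCat.ofHom S.p) (CommRingCat.ofHom T.p) (CommRingCat.ofHom φA))
    (Q0 : Subring Q) (hQ0 : ∀ r, φ r ∈ Q0) (hgen : Subring.closure (Set.range φA' ∪ T.v '' Q0) = ⊤)
    (w : C') (hw : T.p w = 0) : ∃ z ∈ (RingHom.ker S.u).map φ, z ∈ Q0 ∧ T.v z = w := by
  let ψ : R →+* Q0 := φ.codRestrict Q0 hQ0
  let K := (RingHom.ker S.u).map ψ
  have hK : ∀ z ∈ K, (z : Q) ∈ (RingHom.ker S.u).map φ := fun z hz => by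
    have := Ideal.mem_map_of_mem Q0.subtype hz
    rwa [Ideal.map_map] at this
  have hmul : ∀ c : C', ∀ z ∈ K, ∃ z' ∈ K, T.v (z' : Q0) = c * T.v (z : Q0) := by
    intro c
    have hc : c ∈ Subring.closure (Set.range φA' ∪ T.v '' Q0) := hgen ▸ Subring.mem_top c
    induction hc using Subring.closure_induction with
    | mem x hx =>
      rcases hx with ⟨a, rfl⟩ | ⟨y, hy, rfl⟩
      · intro z hz
        induction hz using Submodule.span_induction with
        | mem x hx =>
          obtain ⟨r, hr, rfl⟩ := hx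
          obtain ⟨r', hr', hr''⟩ := S.lift 0 (a * S.v r) (by
            rw [map_zero, map_mul, ← S.w, show S.u r = 0 from hr, map_zero, mul_zero])
          refine ⟨ψ r', Ideal.mem_map_of_mem ψ (show r' ∈ RingHom.ker S.u from hr'), ?_⟩
          show T.v (φ r') = φA' a * T.v (φ r)
          rw [← RingHom.comp_apply, hv, ← RingHom.comp_apply, hv, RingHom.comp_apply, RingHom.comp_apply, hr'', map_mul]
        | zero => exact ⟨0, zero_mem _, by simp⟩
        | add x y _ _ hx hy =>
          obtain ⟨x', hx', ex⟩ := hx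
          obtain ⟨y', hy', ey⟩ := hy
          exact ⟨x' + y', add_mem hx' hy', by simp only [Subring.coe_add, map_add, ex, ey, mul_add]⟩
        | smul b x _ hx =>
          obtain ⟨x', hx', ex⟩ := hx
          exact ⟨b * x', Ideal.mul_mem_left _ b hx', by
            simp only [smul_eq_mul, Subring.coe_mul, map_mul, ex]; ring⟩
      · exact fun z hz => ⟨⟨y, hy⟩ * z, Ideal.mul_mem_left _ _ hz, by simp⟩
    | zero => exact fun z _ => ⟨0, zero_mem _, by simp⟩
    | one => exact fun z hz => ⟨z, hz, by simp⟩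
    | add x y _ _ hx hy =>
      intro z hz
      obtain ⟨x', hx', ex⟩ := hx z hz
      obtain ⟨y', hy', ey⟩ := hy z hz
      exact ⟨x' + y', add_mem hx' hy', by simp only [Subring.coe_add, map_add, ex, ey, add_mul]⟩
    | neg x _ hx =>
      intro z hz
      obtain ⟨x', hx', ex⟩ := hx z hz
      exact ⟨-x', neg_mem hx', by simp only [Subring.coe_neg, map_neg, ex, neg_mul]⟩
    | mul x y _ _ hx hy =>
      intro z hz
      obtain ⟨y', hy', ey⟩ := hy z hz
      obtain ⟨x', hx', ex⟩ := hx y' hy'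
      exact ⟨x', hx', by rw [ex, ey, mul_assoc]⟩
  have hw' : w ∈ (RingHom.ker S.p).map φA' := ker_p_le pC hw
  suffices h : ∃ z ∈ K, T.v (z : Q0) = w by
    obtain ⟨z, hz, e⟩ := h
    exact ⟨z, hK z hz, z.2, e⟩
  have hle : (RingHom.ker S.p).map φA' ≤ RingHom.ker T.p := Ideal.map_le_iff_le_comap.2 fun a ha => by
    show T.p (φA' a) = 0
    have := congrArg (fun t : CommRingCat.of A' ⟶ CommRingCat.of C => t.hom a) pC.w
    change T.p (φA' a) = φA (S.p a) at this
    rw [this, show S.p a = 0 from ha, map_zero]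
  induction hw' using Submodule.span_induction with
  | mem x hx =>
    obtain ⟨a, ha, rfl⟩ := hx
    obtain ⟨r, hr, hr'⟩ := S.lift 0 a (by rw [map_zero]; exact (show S.p a = 0 from ha).symm)
    refine ⟨ψ r, Ideal.mem_map_of_mem ψ (show r ∈ RingHom.ker S.u from hr), ?_⟩
    show T.v (φ r) = _
    rw [← RingHom.comp_apply, hv, RingHom.comp_apply, hr']
  | zero => exact ⟨0, zero_mem _, by simp⟩
  | add x y hx' hy' hx hy =>
    obtain ⟨x', hxK, ex⟩ := hx (hle hx')
    obtain ⟨y', hyK, ey⟩ := hy (hle hy')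
    exact ⟨x' + y', add_mem hxK hyK, by simp only [Subring.coe_add, map_add, ex, ey]⟩
  | smul b x hx' hx =>
    obtain ⟨x', hxK, ex⟩ := hx (hle hx')
    obtain ⟨z, hz, ez⟩ := hmul b x' hxK
    exact ⟨z, hz, by rw [ez, ex, smul_eq_mul]⟩

variable (hq : T.q.comp φB = φA.comp S.q) (hp : T.p.comp φA' = φA.comp S.p)
  (pC : IsPushout (CommRingCat.ofHom φA') (CommRingCat.ofHom S.p) (CommRingCat.ofHom T.p) (CommRingCat.ofHom φA))
  (pD : IsPushout (CommRingCat.ofHom φB) (CommRingCat.ofHom S.q) (CommRingCat.ofHom T.q) (CommRingCat.ofHom φA))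
include hq hp pC pD

theorem closure_eq_top : Subring.closure (Set.range φA' ∪ T.v '' ((⊤ : Subring Q) : Set Q)) = ⊤ := by
  let W := Subring.closure (Set.range φA' ∪ T.v '' ((⊤ : Subring Q) : Set Q))
  refine eq_top_iff.2 fun c _ => ?_
  have h : W.map T.p = ⊤ := by
    refine eq_top_iff.2 ((CommRingCat.closure_range_union_range_eq_top_of_isPushout pD).ge.trans ?_)
    rw [Subring.closure_le]
    rintro _ (⟨d, rfl⟩ | ⟨a, rfl⟩)
    · obtain ⟨x, rfl⟩ := T.u_surjective d
      exact ⟨T.v x, Subring.subset_closure (Or.inr ⟨x, trivial, rfl⟩), (T.w x).symm⟩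
    · obtain ⟨a', rfl⟩ := S.surj a
      exact ⟨φA' a', Subring.subset_closure (Or.inl ⟨a', rfl⟩), RingHom.congr_fun hp a'⟩
  obtain ⟨c₀, hc₀, e⟩ := (h ▸ Subring.mem_top (T.p c) : T.p c ∈ W.map T.p)
  obtain ⟨z, -, hz⟩ := T.lift 0 (c - c₀) (by rw [map_zero, map_sub, e, sub_self])
  have : c = c₀ + T.v z := by rw [hz]; ring
  rw [this]
  exact add_mem hc₀ (Subring.subset_closure (Or.inr ⟨z, trivial, rfl⟩))

theorem ker_u_le : RingHom.ker T.u ≤ (RingHom.ker S.u).map φ := fun z hz => by
  obtain ⟨z', hz', -, e⟩ := exists_lift_ker hu hv pC ⊤ (fun _ => trivial) (closure_eq_top hu hv hq hp pC pD) (T.v z) (by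
    rw [← T.w, show T.u z = 0 from hz, map_zero])
  rwa [T.inj z z' (by rw [show T.u z = 0 from hz]; exact (map_le_ker hu hz').symm) e.symm]

/-- the closed leg is a base change -/
theorem isPushout_u : IsPushout (CommRingCat.ofHom φ) (CommRingCat.ofHom S.u) (CommRingCat.ofHom T.u)
    (CommRingCat.ofHom φB) := by
  have w : CommRingCat.ofHom φ ≫ CommRingCat.ofHom T.u = CommRingCat.ofHom S.u ≫ CommRingCat.ofHom φB := by
    ext x; exact RingHom.congr_fun hu x
  have hker : ∀ (s : PushoutCocone (CommRingCat.ofHom φ) (CommRingCat.ofHom S.u)) (x : Q),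
      T.u x = 0 → s.inl.hom x = 0 := fun s x hx => by
    have hle : (RingHom.ker S.u).map φ ≤ RingHom.ker s.inl.hom := Ideal.map_le_iff_le_comap.2 fun r hr => by
      show s.inl.hom (φ r) = 0
      have h := congrArg (fun f : CommRingCat.of R ⟶ s.pt => f.hom r) s.condition
      change s.inl.hom (φ r) = s.inr.hom (S.u r) at h
      rw [h, show S.u r = 0 from hr, map_zero]
    exact hle (ker_u_le hu hv hq hp pC pD hx)
  let χ : ∀ s : PushoutCocone (CommRingCat.ofHom φ) (CommRingCat.ofHom S.u), D →+* s.pt := fun s =>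
    T.u.liftOfSurjective T.u_surjective ⟨s.inl.hom, fun x hx => hker s x hx⟩
  have hχ : ∀ s x, χ s (T.u x) = s.inl.hom x := fun s x => RingHom.liftOfRightInverse_comp_apply _ _ _ _ _
  refine IsPushout.of_isColimit (c := PushoutCocone.mk (CommRingCat.ofHom T.u) (CommRingCat.ofHom φB) w)
    (PushoutCocone.IsColimit.mk w (fun s => CommRingCat.ofHom (χ s)) (fun s => ?_) (fun s => ?_) fun s m h1 h2 => ?_)
  · ext x; exact hχ s x
  · ext b
    obtain ⟨r, rfl⟩ := S.u_surjective b
    show χ s (φB (S.u r)) = s.inr.hom (S.u r)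
    rw [← RingHom.comp_apply φB, ← hu, RingHom.comp_apply, hχ]
    exact congrArg (fun f : CommRingCat.of R ⟶ s.pt => f.hom r) s.condition
  · ext x
    obtain ⟨a, rfl⟩ := T.u_surjective x
    exact ((congrArg (fun f : CommRingCat.of Q ⟶ s.pt => f.hom a) h1).trans (hχ s a).symm :)

/-- the integral leg is a base change -/
theorem isPushout_v : IsPushout (CommRingCat.ofHom φ) (CommRingCat.ofHom S.v) (CommRingCat.ofHom T.v)
    (CommRingCat.ofHom φA') := by
  algebraize [φ, S.v]
  letI : Algebra R C' := (φA'.comp S.v).toAlgebra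
  let a₁ : A' →ₐ[R] C' := { φA' with commutes' := fun _ => rfl }
  let a₂ : Q →ₐ[R] C' := { T.v with commutes' := fun r => RingHom.congr_fun hv r }
  let θ : Q ⊗[R] A' →ₐ[R] C' := Algebra.TensorProduct.lift a₂ a₁ (fun _ _ => mul_comm _ _)
  have hθ : ∀ x a, θ (x ⊗ₜ a) = T.v x * φA' a := fun x a => Algebra.TensorProduct.lift_tmul _ _ _ _ _
  have hsurj : Function.Surjective θ := fun c => by
    have h : c ∈ Subring.closure (Set.range φA' ∪ T.v '' ((⊤ : Subring Q) : Set Q)) :=
      (closure_eq_top hu hv hq hp pC pD) ▸ Subring.mem_top c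
    have hle : Subring.closure (Set.range φA' ∪ T.v '' ((⊤ : Subring Q) : Set Q)) ≤ θ.toRingHom.range := by
      rw [Subring.closure_le]
      rintro _ (⟨a, rfl⟩ | ⟨x, -, rfl⟩)
      · exact ⟨1 ⊗ₜ a, (hθ 1 a).trans (by rw [map_one, one_mul])⟩
      · exact ⟨x ⊗ₜ 1, (hθ x 1).trans (by rw [map_one, mul_one])⟩
    exact hle h
  let N : Ideal (Q ⊗[R] A') := (RingHom.ker S.p).map
    ((Algebra.TensorProduct.includeRight : A' →ₐ[R] Q ⊗[R] A') : A' →+* Q ⊗[R] A')
  have hN : ∀ m ∈ N, ∃ z ∈ (RingHom.ker S.u).map φ, m = z ⊗ₜ[R] (1 : A') := by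
    intro m hm
    induction hm using Submodule.span_induction with
    | mem x hx =>
      obtain ⟨a, ha, rfl⟩ := hx
      obtain ⟨r, hr, hr'⟩ := S.lift 0 a (by rw [map_zero]; exact (show S.p a = 0 from ha).symm)
      refine ⟨φ r, Ideal.mem_map_of_mem φ (show r ∈ RingHom.ker S.u from hr), ?_⟩
      show (1 : Q) ⊗ₜ[R] a = (algebraMap R Q r) ⊗ₜ[R] (1 : A')
      rw [← hr', Algebra.algebraMap_eq_smul_one, TensorProduct.smul_tmul, ← Algebra.algebraMap_eq_smul_one]
      rfl
    | zero => exact ⟨0, zero_mem _, (TensorProduct.zero_tmul _ _).symm⟩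
    | add x y _ _ hx hy =>
      obtain ⟨x', hx', rfl⟩ := hx
      obtain ⟨y', hy', rfl⟩ := hy
      exact ⟨x' + y', add_mem hx' hy', (TensorProduct.add_tmul _ _ _).symm⟩
    | smul b x hxN hx =>
      obtain ⟨z, hz, rfl⟩ := hx
      clear hsurj hxN
      induction b using TensorProduct.induction_on with
      | zero => exact ⟨0, zero_mem _, by simp⟩
      | add b₁ b₂ h₁ h₂ =>
        obtain ⟨z₁, hz₁, e₁⟩ := h₁
        obtain ⟨z₂, hz₂, e₂⟩ := h₂
        exact ⟨z₁ + z₂, add_mem hz₁ hz₂, by rw [add_smul, e₁, e₂, TensorProduct.add_tmul]⟩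
      | tmul q a =>
        induction hz using Submodule.span_induction with
        | mem x hx =>
          obtain ⟨r, hr, rfl⟩ := hx
          obtain ⟨r', hr', hr''⟩ := S.lift 0 (a * S.v r) (by
            rw [map_zero, map_mul, ← S.w, show S.u r = 0 from hr, map_zero, mul_zero])
          refine ⟨φ r' * q, Ideal.mul_mem_right _ _ (Ideal.mem_map_of_mem φ (show r' ∈ RingHom.ker S.u from hr')), ?_⟩
          show (q ⊗ₜ[R] a) * ((algebraMap R Q r) ⊗ₜ[R] (1 : A')) = (algebraMap R Q r' * q) ⊗ₜ[R] (1 : A')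
          rw [Algebra.TensorProduct.tmul_mul_tmul, mul_one, mul_comm q, ← Algebra.smul_def, ← Algebra.smul_def,
            TensorProduct.smul_tmul, TensorProduct.smul_tmul, Algebra.smul_def, Algebra.smul_def]
          congr 1
          show S.v r * a = S.v r' * 1
          rw [hr'', mul_one, mul_comm]
        | zero => exact ⟨0, zero_mem _, by simp⟩
        | add x y _ _ hx hy =>
          obtain ⟨x', hx', ex⟩ := hx
          obtain ⟨y', hy', ey⟩ := hy
          exact ⟨x' + y', add_mem hx' hy', by rw [TensorProduct.add_tmul, smul_add, ex, ey, TensorProduct.add_tmul]⟩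
        | smul c x _ hx =>
          obtain ⟨x', hx', ex⟩ := hx
          refine ⟨c * x', Ideal.mul_mem_left _ c hx', ?_⟩
          rw [smul_eq_mul, show (c • x) ⊗ₜ[R] (1 : A') = (c ⊗ₜ[R] (1 : A')) * (x ⊗ₜ[R] 1) by simp,
            mul_left_comm, ← smul_eq_mul (q ⊗ₜ[R] a), ex]
          simp
  let mk := Ideal.Quotient.mk N
  let iQ : Q →+* Q ⊗[R] A' := Algebra.TensorProduct.includeLeftRingHom
  let iA : A' →+* Q ⊗[R] A' := ((Algebra.TensorProduct.includeRight : A' →ₐ[R] Q ⊗[R] A') : A' →+* Q ⊗[R] A')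
  have hiw : ∀ r, iQ (φ r) = iA (S.v r) := fun r => by
    show (algebraMap R Q r) ⊗ₜ[R] (1 : A') = (1 : Q) ⊗ₜ[R] (algebraMap R A' r)
    rw [Algebra.algebraMap_eq_smul_one, TensorProduct.smul_tmul, ← Algebra.algebraMap_eq_smul_one]
  let lA : A →+* (Q ⊗[R] A') ⧸ N := S.p.liftOfSurjective S.surj ⟨mk.comp iA, fun a ha =>
    Ideal.Quotient.eq_zero_iff_mem.2 (Ideal.mem_map_of_mem _ ha)⟩
  have hkerD : RingHom.ker T.u ≤ RingHom.ker (mk.comp iQ) := by
    refine (ker_u_le hu hv hq hp pC pD).trans (Ideal.map_le_iff_le_comap.2 fun r hr => ?_)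
    show mk (iQ (φ r)) = 0
    rw [hiw]
    refine Ideal.Quotient.eq_zero_iff_mem.2 (Ideal.mem_map_of_mem _ ?_)
    show S.p (S.v r) = 0
    rw [← S.w, show S.u r = 0 from hr, map_zero]
  let lD : D →+* (Q ⊗[R] A') ⧸ N := T.u.liftOfSurjective T.u_surjective ⟨mk.comp iQ, hkerD⟩
  have hlA : ∀ a, lA (S.p a) = mk (iA a) := fun a => RingHom.liftOfRightInverse_comp_apply _ _ _ _ a
  have hlD : ∀ x, lD (T.u x) = mk (iQ x) := fun x => RingHom.liftOfRightInverse_comp_apply _ _ _ _ x
  have hcond : CommRingCat.ofHom φB ≫ CommRingCat.ofHom lD = CommRingCat.ofHom S.q ≫ CommRingCat.ofHom lA := by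
    ext b
    obtain ⟨r, rfl⟩ := S.u_surjective b
    show lD (φB (S.u r)) = lA (S.q (S.u r))
    rw [← RingHom.comp_apply φB, ← hu, RingHom.comp_apply, hlD, S.w, hlA, hiw]
  let χ := (pD.desc (CommRingCat.ofHom lD) (CommRingCat.ofHom lA) hcond).hom
  have hχD : ∀ d, χ (T.q d) = lD d := fun d =>
    congrArg (fun t : CommRingCat.of D ⟶ _ => t.hom d) (pD.inl_desc _ _ hcond)
  have hχA : ∀ a, χ (φA a) = lA a := fun a =>
    congrArg (fun t : CommRingCat.of A ⟶ _ => t.hom a) (pD.inr_desc _ _ hcond)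
  have hχθ : ∀ m, χ (T.p (θ m)) = mk m := fun m => by
    induction m using TensorProduct.induction_on with
    | zero => simp
    | tmul x a =>
      rw [hθ, map_mul, map_mul, ← T.w, hχD, hlD, ← RingHom.comp_apply T.p, hp, RingHom.comp_apply, hχA, hlA, ← map_mul]
      congr 1
      show (x ⊗ₜ[R] (1 : A')) * ((1 : Q) ⊗ₜ[R] a) = x ⊗ₜ[R] a
      simp
    | add x y hx hy => simp only [map_add, hx, hy]
  have hinj : Function.Injective θ := by
    rw [injective_iff_map_eq_zero]
    intro m hm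
    obtain ⟨z, hz, rfl⟩ := hN m (Ideal.Quotient.eq_zero_iff_mem.1 (show mk m = 0 by
      rw [← hχθ, hm, map_zero, map_zero]))
    rw [hθ, map_one, mul_one] at hm
    rw [T.inj z 0 (by rw [map_zero]; exact map_le_ker hu hz) (by rw [map_zero, hm]), TensorProduct.zero_tmul]
  exact (CommRingCat.isPushout_tensorProduct R Q A').of_iso (Iso.refl _) (Iso.refl _) (Iso.refl _)
    (RingEquiv.toCommRingCatIso (RingEquiv.ofBijective θ ⟨hinj, hsurj⟩)) (by simp) (by simp)
    (by ext x; exact (hθ x 1).trans (by rw [map_one, mul_one]; rfl))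
    (by ext a; exact (hθ 1 a).trans (by rw [map_one, one_mul]; rfl))

theorem finiteType (hB : φB.FiniteType) (hA : φA'.FiniteType) : φ.FiniteType := by
  classical
  algebraize [φ, φB, φA']
  obtain ⟨sB, hsB⟩ := (inferInstance : Algebra.FiniteType B D)
  obtain ⟨sA, hsA⟩ := (inferInstance : Algebra.FiniteType A' C')
  -- every generator of `C'` is reached by finitely many elements of `Q`
  have hfin : ∀ c : C', ∃ t : Finset Q, c ∈ Subring.closure (Set.range φA' ∪ T.v '' (t : Set Q)) := by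
    intro c
    have h : c ∈ Subring.closure (Set.range φA' ∪ T.v '' ((⊤ : Subring Q) : Set Q)) :=
      (closure_eq_top hu hv hq hp pC pD) ▸ Subring.mem_top c
    have mono : ∀ {t t' : Finset Q}, t ⊆ t' → Subring.closure (Set.range φA' ∪ T.v '' (t : Set Q)) ≤
        Subring.closure (Set.range φA' ∪ T.v '' (t' : Set Q)) := fun ht =>
      Subring.closure_mono (Set.union_subset_union_right _ (Set.image_mono (Finset.coe_subset.2 ht)))
    induction h using Subring.closure_induction with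
    | mem x hx =>
      rcases hx with hx | ⟨y, -, rfl⟩
      · exact ⟨∅, Subring.subset_closure (Or.inl hx)⟩
      · exact ⟨{y}, Subring.subset_closure (Or.inr ⟨y, by simp, rfl⟩)⟩
    | zero => exact ⟨∅, zero_mem _⟩
    | one => exact ⟨∅, one_mem _⟩
    | add x y _ _ hx hy =>
      obtain ⟨t, ht⟩ := hx
      obtain ⟨t', ht'⟩ := hy
      exact ⟨t ∪ t', add_mem (mono Finset.subset_union_left ht) (mono Finset.subset_union_right ht')⟩
    | neg x _ hx =>
      obtain ⟨t, ht⟩ := hx
      exact ⟨t, neg_mem ht⟩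
    | mul x y _ _ hx hy =>
      obtain ⟨t, ht⟩ := hx
      obtain ⟨t', ht'⟩ := hy
      exact ⟨t ∪ t', mul_mem (mono Finset.subset_union_left ht) (mono Finset.subset_union_right ht')⟩
  choose t ht using hfin
  let s : Finset Q := sB.image (Function.surjInv T.u_surjective) ∪ sA.biUnion t
  let Q0 := Algebra.adjoin R (s : Set Q)
  have hgen : Subring.closure (Set.range φA' ∪ T.v '' (Q0.toSubring : Set Q)) = ⊤ := by
    refine eq_top_iff.2 fun c _ => ?_
    have hc : c ∈ Algebra.adjoin A' (sA : Set C') := hsA ▸ Algebra.mem_top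
    have hle : (Algebra.adjoin A' (sA : Set C')).toSubring ≤ Subring.closure (Set.range φA' ∪ T.v '' (Q0.toSubring : Set Q)) := by
      rw [Algebra.adjoin_eq_ring_closure, Subring.closure_le]
      rintro x (hx | hx)
      · exact Subring.subset_closure (Or.inl hx)
      · refine Subring.closure_mono (Set.union_subset_union_right _ (Set.image_mono ?_)) (ht x)
        exact fun y hy => Algebra.subset_adjoin (Finset.mem_union_right _ (Finset.mem_biUnion.2 ⟨x, hx, hy⟩))
    exact hle hc
  have hu0 : ∀ d, ∃ x ∈ Q0, T.u x = d := by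
    intro d
    have hd : d ∈ Algebra.adjoin B (sB : Set D) := hsB ▸ Algebra.mem_top
    have hle : (Algebra.adjoin B (sB : Set D)).toSubring ≤ Q0.toSubring.map T.u := by
      rw [Algebra.adjoin_eq_ring_closure, Subring.closure_le]
      rintro x (⟨b, rfl⟩ | hx)
      · obtain ⟨r, rfl⟩ := S.u_surjective b
        exact ⟨φ r, Q0.algebraMap_mem r, RingHom.congr_fun hu r⟩
      · exact ⟨_, Algebra.subset_adjoin (Finset.mem_union_left _ (Finset.mem_image_of_mem _ hx)),
          Function.surjInv_eq _ x⟩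
    exact hle hd
  refine ⟨⟨s, eq_top_iff.2 fun x _ => ?_⟩⟩
  obtain ⟨x₀, hx₀, e⟩ := hu0 (T.u x)
  obtain ⟨z, hz, hzQ, ez⟩ := exists_lift_ker hu hv pC Q0.toSubring (fun r => Q0.algebraMap_mem r) hgen (T.v (x - x₀)) (by
    rw [← T.w, map_sub, e, sub_self, map_zero])
  have : x = x₀ + z := by
    refine T.inj _ _ ?_ ?_
    · rw [map_add, e, show T.u z = 0 from map_le_ker hu hz, add_zero]
    · rw [map_add, ez, map_sub]; ring
  rw [this]
  exact add_mem hx₀ hzQ

end Groth.Agent.PushFun
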